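import Mathlib
import Groth.Agent.DerLib.Horseshoe

/-! Bounded below complexes of finite injective dimension. -/

set_option autoImplicit false
set_option linter.style.haveILetI false
set_option backward.isDefEq.respectTransparency false
set_option backward.isDefEq.respectTransparency.types false

universe w v u

open CategoryTheory CategoryTheory.Limits HomologicalComplex

noncomputable section

namespace InjDimCxLib

variable {A : Type u} [Category.{v} A] [Abelian A] [HasDerivedCategory.{w} A]

/-- Morphisms in `D(A)` from an object in degree `0` into a complex that vanishes in degree `i`. -/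
theorem hom_eq_zero_of_isStrictlyLE (I : CochainComplex A ℤ) [I.IsKInjective] (c i : ℤ) [I.IsStrictlyLE c]
    (hi : c < i) (Y : A)
    (φ : (DerivedCategory.singleFunctor A 0).obj Y ⟶ (DerivedCategory.Q.obj I)⟦i⟧) : φ = 0 := by
  rw [← cancel_mono ((DerivedCategory.Q.commShiftIso i).inv.app I), zero_comp]
  let ψ : DerivedCategory.Qh.obj ((HomotopyCategory.quotient _ _).obj
      ((CochainComplex.singleFunctor A 0).obj Y)) ⟶
        DerivedCategory.Qh.obj ((HomotopyCategory.quotient _ _).obj (I⟦i⟧)) :=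
    (DerivedCategory.quotientCompQhIso A).hom.app _ ≫ (φ ≫ (DerivedCategory.Q.commShiftIso i).inv.app I) ≫
      (DerivedCategory.quotientCompQhIso A).inv.app _
  obtain ⟨g, hg⟩ := (CochainComplex.IsKInjective.Qh_map_bijective _ (I⟦i⟧)).surjective ψ
  obtain ⟨g, rfl⟩ := (HomotopyCategory.quotient _ _).map_surjective g
  have h0 : g = 0 := by
    apply HomologicalComplex.from_single_hom_ext
    exact (show IsZero ((I⟦i⟧).X 0) from I.isZero_of_isStrictlyLE c (0 + i) (by omega)).eq_of_tgt _ _
  subst h0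
  rw [Functor.map_zero, Functor.map_zero] at hg
  have hψ : ψ = 0 := hg.symm
  simp only [ψ, Preadditive.IsIso.comp_left_eq_zero, Preadditive.IsIso.comp_right_eq_zero] at hψ
  rw [hψ, zero_comp]

/-- Vanishing of the maps `Y[0] ⟶ L[i]` makes degree-`i` cocycles coboundaries. -/
theorem exists_lift_of_hom_zero (L : CochainComplex A ℤ) [L.IsKInjective] (i : ℤ) (Y : A)
    (h : ∀ φ : (DerivedCategory.singleFunctor A 0).obj Y ⟶ (DerivedCategory.Q.obj L)⟦i⟧, φ = 0)
    (x : Y ⟶ L.X i) (hx : x ≫ L.d i (i + 1) = 0) :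
    ∃ y : Y ⟶ L.X (i - 1), y ≫ L.d (i - 1) i = x := by
  let g : (CochainComplex.singleFunctor A 0).obj Y ⟶ L⟦i⟧ :=
    HomologicalComplex.mkHomFromSingle (x ≫ (L.XIsoOfEq (by omega : i = 0 + i)).hom) (by
      intro j hj
      obtain rfl : j = 1 := by simp at hj; omega
      simp only [CochainComplex.shiftFunctor_obj_d', Linear.comp_units_smul, Category.assoc,
        HomologicalComplex.XIsoOfEq_hom_comp_d]
      have := hx
      rw [← cancel_mono (L.XIsoOfEq (by omega : i + 1 = 1 + i)).hom, Category.assoc,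
        HomologicalComplex.d_comp_XIsoOfEq_hom, zero_comp] at this
      rw [this, smul_zero])
  have hQ : DerivedCategory.Q.map g = DerivedCategory.Q.map 0 := by
    rw [Functor.map_zero, ← cancel_mono ((DerivedCategory.Q.commShiftIso i).hom.app L), zero_comp]
    exact h _
  have hq : (HomotopyCategory.quotient A (.up ℤ)).map g = (HomotopyCategory.quotient A (.up ℤ)).map 0 :=
    (CochainComplex.IsKInjective.Qh_map_bijective _ (L⟦i⟧)).injective (by
      rw [← cancel_mono ((DerivedCategory.quotientCompQhIso A).hom.app _)]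
      exact ((DerivedCategory.quotientCompQhIso A).hom.naturality g).trans
        ((congrArg (_ ≫ ·) hQ).trans ((DerivedCategory.quotientCompQhIso A).hom.naturality 0).symm))
  have H := (HomotopyCategory.homotopyOfEq _ _ hq).comm 0
  rw [HomologicalComplex.zero_f, add_zero, dNext_eq _ (show (ComplexShape.up ℤ).Rel (0 : ℤ) 1 from by simp),
    prevD_eq _ (show (ComplexShape.up ℤ).Rel (-1 : ℤ) 0 from by simp)] at H
  set h' := (HomotopyCategory.homotopyOfEq _ _ hq).hom 0 (-1)
  have hd : ((CochainComplex.singleFunctor A 0).obj Y).d 0 1 = 0 :=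
    HomologicalComplex.single_obj_d _ _ _ _ _
  rw [hd, zero_comp, zero_add] at H
  simp only [g, CochainComplex.shiftFunctor_obj_d', Linear.comp_units_smul,
    HomologicalComplex.mkHomFromSingle_f] at H
  refine ⟨i.negOnePow • ((HomologicalComplex.singleObjXSelf (.up ℤ) 0 Y).inv ≫ h' ≫
    (L.XIsoOfEq (by omega : -1 + i = i - 1)).hom), ?_⟩
  have H2 := congrArg ((HomologicalComplex.singleObjXSelf (.up ℤ) 0 Y).inv ≫ ·
    ≫ (L.XIsoOfEq (by omega : 0 + i = i)).hom) H
  simp only [Linear.units_smul_comp, Linear.comp_units_smul, Category.assoc] at H2 ⊢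
  simp only [Iso.inv_hom_id_assoc, HomologicalComplex.XIsoOfEq_hom_comp_d,
    HomologicalComplex.d_comp_XIsoOfEq_hom] at H2 ⊢
  simpa using H2.symm

/-- A `K`-injective complex of injectives without maps `Y[0] ⟶ L[i]` for large `i` is homotopy
equivalent to a bounded one. -/
theorem exists_bounded (L : CochainComplex A ℤ) (a n₀ : ℤ) [L.IsStrictlyGE a]
    (hL : ∀ m, Injective (L.X m))
    (h : ∀ (Y : A) (i : ℤ), n₀ < i →
      ∀ φ : (DerivedCategory.singleFunctor A 0).obj Y ⟶ (DerivedCategory.Q.obj L)⟦i⟧, φ = 0) :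
    ∃ (T : CochainComplex A ℤ) (c : ℤ) (f : L ⟶ T), T.IsStrictlyGE a ∧ T.IsStrictlyLE c ∧
      (∀ m, Injective (T.X m)) ∧ QuasiIso f := by
  haveI := hL
  haveI : L.IsKInjective := CochainComplex.isKInjective_of_injective L a
  let n : ℤ := max n₀ a + 1
  have hn : n₀ < n ∧ a < n := ⟨by omega, by omega⟩
  haveI : L.IsLE n := by
    rw [CochainComplex.isLE_iff]
    intro m hm
    rw [L.exactAt_iff' (m - 1) m (m + 1) (by simp) (by simp), ShortComplex.exact_iff_exact_up_to_refinements]
    intro Y x hx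
    obtain ⟨y, hy⟩ := exists_lift_of_hom_zero L m Y (h Y m (by omega)) x hx
    exact ⟨Y, 𝟙 Y, inferInstance, y, by simpa using hy.symm⟩
  obtain ⟨s, hs⟩ := exists_lift_of_hom_zero L n (L.cycles n) (h _ n hn.1) (L.iCycles n)
    (L.iCycles_d n (n + 1))
  haveI : Injective (L.cycles n) :=
    (Retract.injective (⟨s, L.toCycles (n - 1) n, by
      rw [← cancel_mono (L.iCycles n), Category.assoc, HomologicalComplex.toCycles_i, hs,
        Category.id_comp]⟩ : Retract (L.cycles n) (L.X (n - 1))))
  have hTge : (L.truncLE n).IsStrictlyGE a := by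
    rw [CochainComplex.isStrictlyGE_iff]
    intro m hm
    exact (L.isZero_of_isStrictlyGE a m hm).of_iso (L.truncLEXIso n m (by omega))
  have hT : ∀ m, Injective ((L.truncLE n).X m) := fun m => by
    rcases lt_trichotomy m n with hm | rfl | hm
    · exact Injective.of_iso (L.truncLEXIso n m hm).symm (hL m)
    · exact Injective.of_iso (L.truncLEXIsoCycles n).symm inferInstance
    · exact ((L.truncLE n).isZero_of_isStrictlyLE n m hm).injective
  haveI := hTge
  haveI := hT
  haveI : (L.truncLE n).IsKInjective := CochainComplex.isKInjective_of_injective _ a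
  haveI : QuasiIso (L.ιTruncLE n) := (L.quasiIso_ιTruncLE_iff n).2 inferInstance
  obtain ⟨e, he⟩ := (CochainComplex.IsKInjective.quasiIso_iff (L.ιTruncLE n)).1 inferInstance
  refine ⟨L.truncLE n, n, e.inv, hTge, inferInstance, hT, ?_⟩
  rw [CochainComplex.IsKInjective.quasiIso_iff]
  exact ⟨e.symm, rfl⟩

theorem iff_bounded_injective [EnoughInjectives A] (K : CochainComplex A ℤ) (a : ℤ) [K.IsStrictlyGE a] :
    (∃ (I : CochainComplex A ℤ) (b c : ℤ) (f : K ⟶ I), I.IsStrictlyGE b ∧ I.IsStrictlyLE c ∧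
        (∀ n : ℤ, Injective (I.X n)) ∧ QuasiIso f) ↔
      ∃ n₀ : ℤ, ∀ (Y : A) (i : ℤ), n₀ < i →
        ∀ φ : (DerivedCategory.singleFunctor A 0).obj Y ⟶ (DerivedCategory.Q.obj K)⟦i⟧, φ = 0 := by
  constructor
  · rintro ⟨I, b, c, f, hb, hc, hI, hf⟩
    haveI := hI
    haveI := hf
    haveI : I.IsKInjective := CochainComplex.isKInjective_of_injective I b
    refine ⟨c, fun Y i hi φ => ?_⟩
    rw [← cancel_mono ((DerivedCategory.Q.map f)⟦i⟧'), zero_comp]
    exact hom_eq_zero_of_isStrictlyLE I c i hi Y _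
  · rintro ⟨n₀, hn₀⟩
    obtain ⟨L, α, hge, hinj, -, hα⟩ := Groth.Agent.DerLib.Horseshoe.exists_injective_resolution K a
    haveI := hge
    haveI := hα
    obtain ⟨T, c, f, hTge, hTle, hT, hf⟩ := exists_bounded L a n₀ hinj fun Y i hi φ => by
      have := hn₀ Y i hi (φ ≫ (inv (DerivedCategory.Q.map α))⟦i⟧')
      rwa [Preadditive.IsIso.comp_right_eq_zero] at this
    haveI := hf
    exact ⟨T, a, c, α ≫ f, hTge, hTle, hT, inferInstance⟩

end InjDimCxLib
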